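import Cfsg.Agent.Spor.C3SaA1.D0

set_option autoImplicit false
set_option maxRecDepth 100000000
set_option Elab.async false

namespace Cfsg.Agent.Spor.C3SaA1

theorem ok0 : Net.okb 1 n0 = true := by decide +kernel

theorem ok1 : Net.okb 1 n1 = true := by decide +kernel

theorem ok2 : Net.okb 1 n2 = true := by decide +kernel

theorem ok3 : Net.okb 1 n3 = true := by decide +kernel

theorem ok4 : Net.okb 1 n4 = true := by decide +kernel

theorem ok5 : Net.okb 1 n5 = true := by decide +kernel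

theorem rel0 : T.rel 1 [1, 1, 1] 0 1 = true := by decide +kernel

theorem rel1 : T.rel 1 [5, 2, 4, 6, 9, 4, 12, 8, 11, 4, 11, 12, 5, 2, 4, 6, 9, 4, 12, 8, 11, 4, 5, 2, 4, 6, 9, 4, 12, 8, 11, 11, 12, 4, 5, 2, 4, 6, 9, 4, 12, 8, 11, 4, 11, 12, 5, 2, 4, 6, 9, 4, 12, 8, 11, 4, 5, 2, 4, 6, 9, 4, 12, 8, 11, 11, 12, 4] 0 1 = true := by decide +kernel

theorem rel2 : T.rel 1 [5, 2, 4, 6, 9, 4, 12, 8, 11, 1, 5, 2, 4, 6, 9, 4, 12, 8, 11, 1, 5, 2, 4, 6, 9, 4, 12, 8, 11, 1] 0 1 = true := by decide +kernel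

theorem rel3 : T.rel 1 [5, 2, 4, 6, 9, 4, 12, 8, 11, 4, 11, 12, 10, 11, 12, 4, 5, 2, 4, 6, 9, 4, 12, 8, 11, 4, 11, 12, 10, 11, 12, 4] 0 1 = true := by decide +kernel

theorem rel4 : T.rel 1 [4, 11, 12, 10, 11, 12, 4, 4, 11, 12, 5, 2, 4, 6, 9, 4, 12, 8, 11, 4, 5, 2, 4, 6, 9, 4, 12, 8, 11, 11, 12, 4, 1, 4, 11, 12, 10, 11, 12, 4, 7, 4, 11, 12, 5, 2, 4, 6, 9, 4, 12, 8, 11, 4, 5, 2, 4, 6, 9, 4, 12, 8, 11, 11, 12, 4] 0 1 = true := by decide +kernel

theorem rel5 : T.rel 1 [4, 11, 12, 10, 11, 12, 4, 1, 4, 11, 12, 10, 11, 12, 4, 7] 0 1 = true := by decide +kernel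

theorem rel6 : T.rel 1 [11, 12, 4, 11, 12, 10, 11, 12, 4, 1, 11, 12, 7, 4, 11, 12, 10, 11, 12, 4] 0 1 = true := by decide +kernel

theorem rel7 : T.rel 1 [11, 12, 4, 11, 12, 5, 2, 4, 6, 9, 4, 12, 8, 11, 4, 5, 2, 4, 6, 9, 4, 12, 8, 11, 11, 12, 4, 11, 12, 4, 11, 12, 5, 2, 4, 6, 9, 4, 12, 8, 11, 4, 5, 2, 4, 6, 9, 4, 12, 8, 11, 11, 12, 4] 0 1 = true := by decide +kernel

theorem rel8 : T.rel 1 [11, 12, 5, 2, 4, 6, 9, 4, 12, 8, 11, 11, 12, 5, 2, 4, 6, 9, 4, 12, 8, 11] 0 1 = true := by decide +kernel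

theorem rel9 : T.rel 1 [4, 11, 12, 5, 2, 4, 6, 9, 4, 12, 8, 11, 4, 5, 2, 4, 6, 9, 4, 12, 8, 11, 11, 12, 4, 1, 4, 11, 12, 5, 2, 4, 6, 9, 4, 12, 8, 11, 4, 5, 2, 4, 6, 9, 4, 12, 8, 11, 11, 12, 4, 1, 4, 11, 12, 5, 2, 4, 6, 9, 4, 12, 8, 11, 4, 5, 2, 4, 6, 9, 4, 12, 8, 11, 11, 12, 4, 1, 4, 11, 12, 5, 2, 4, 6, 9, 4, 12, 8, 11, 4, 5, 2, 4, 6, 9, 4, 12, 8, 11, 11, 12, 4, 1] 0 1 = true := by decide +kernel

theorem rel10 : T.rel 1 [5, 2, 4, 6, 9, 4, 12, 8, 11, 4, 11, 12, 5, 2, 4, 6, 9, 4, 12, 8, 11, 4, 5, 2, 4, 6, 9, 4, 12, 8, 11, 11, 12, 4, 1, 5, 2, 4, 6, 9, 4, 12, 8, 11, 4, 11, 12, 5, 2, 4, 6, 9, 4, 12, 8, 11, 4, 5, 2, 4, 6, 9, 4, 12, 8, 11, 11, 12, 4, 1, 5, 2, 4, 6, 9, 4, 12, 8, 11, 4, 11, 12, 5, 2, 4, 6, 9, 4, 12, 8, 11, 4, 5, 2, 4, 6, 9, 4, 12, 8, 11, 11, 12, 4, 1, 4, 11, 12, 5, 2, 4, 6, 9, 4, 12, 8, 11, 4, 5, 2, 4, 6, 9, 4, 12, 8, 11, 11, 12, 4, 5, 2, 4, 6, 9, 4, 12, 8, 11, 1] 0 1 = true := by decide +kernel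

theorem rel11 : T.rel 1 [4, 11, 12, 10, 11, 12, 4, 4, 11, 12, 10, 11, 12, 4] 0 1 = true := by decide +kernel

theorem rel12 : T.rel 1 [4, 11, 12, 5, 2, 4, 6, 9, 4, 12, 8, 11, 4, 5, 2, 4, 6, 9, 4, 12, 8, 11, 11, 12, 4, 4, 11, 12, 5, 2, 4, 6, 9, 4, 12, 8, 11, 4, 5, 2, 4, 6, 9, 4, 12, 8, 11, 11, 12, 4] 0 1 = true := by decide +kernel

theorem rel13 : T.rel 1 [4, 5, 2, 4, 6, 9, 4, 12, 8, 11, 1, 10, 7, 5, 2, 4, 6, 9, 4, 12, 8, 11] 0 1 = true := by decide +kernel

theorem rel14 : T.rel 1 [4, 1, 4, 5, 2, 4, 6, 9, 4, 12, 8, 11, 4, 5, 2, 4, 6, 9, 4, 12, 8, 11, 10, 7, 10, 7] 0 1 = true := by decide +kernel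

theorem rel15 : T.rel 1 [11, 12, 11, 12] 0 1 = true := by decide +kernel

theorem rel16 : T.rel 1 [5, 2, 4, 6, 9, 4, 12, 4, 6, 9, 4, 12, 8, 11] 0 1 = true := by decide +kernel

theorem rel17 : T.rel 1 [6, 6, 6] 0 1 = true := by decide +kernel

theorem rel18 : T.rel 1 [4, 6, 10, 12] 0 1 = true := by decide +kernel

theorem rel19 : T.rel 1 [1, 6, 7, 12] 0 1 = true := by decide +kernel

theorem rel20 : T.rel 1 [3, 3, 3] 0 1 = true := by decide +kernel

theorem rel21 : T.rel 1 [4, 4, 4] 0 1 = true := by decide +kernel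

theorem rel22 : T.rel 1 [5, 1, 11, 7] 0 1 = true := by decide +kernel

theorem rel23 : T.rel 1 [7, 10, 8, 1, 4] 0 1 = true := by decide +kernel

theorem rel24 : T.rel 1 [5, 2, 1, 2, 11, 1] 0 1 = true := by decide +kernel

theorem rel25 : T.rel 1 [2, 10, 2, 10] 0 1 = true := by decide +kernel

theorem rel26 : T.rel 1 [3, 5, 3, 5] 0 1 = true := by decide +kernel

theorem rel27 : T.rel 1 [5, 5, 5] 0 1 = true := by decide +kernel

theorem rel28 : T.rel 1 [7, 10, 11, 8, 5, 9, 1, 4] 0 1 = true := by decide +kernel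

theorem rel29 : T.rel 1 [3, 5, 10, 9, 10, 5] 0 1 = true := by decide +kernel

theorem rel30 : T.rel 1 [8, 7, 2, 1] 0 1 = true := by decide +kernel

theorem rel31 : T.rel 1 [9, 7, 3, 1] 0 1 = true := by decide +kernel

theorem rel32 : T.rel 1 [10, 7, 4, 1] 0 1 = true := by decide +kernel

theorem rel33 : T.rel 1 [11, 7, 5, 1] 0 1 = true := by decide +kernel

theorem rel34 : T.rel 1 [12, 7, 6, 1] 0 1 = true := by decide +kernel

theorem rel35 : T.rel 1 [9, 8, 3, 2] 0 1 = true := by decide +kernel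

theorem rel36 : T.rel 1 [10, 8, 4, 2] 0 1 = true := by decide +kernel

theorem rel37 : T.rel 1 [11, 8, 5, 2] 0 1 = true := by decide +kernel

theorem rel38 : T.rel 1 [12, 8, 6, 2] 0 1 = true := by decide +kernel

theorem rel39 : T.rel 1 [10, 9, 4, 3] 0 1 = true := by decide +kernel

theorem rel40 : T.rel 1 [11, 9, 5, 3] 0 1 = true := by decide +kernel

theorem rel41 : T.rel 1 [12, 9, 6, 3] 0 1 = true := by decide +kernel

theorem rel42 : T.rel 1 [11, 10, 5, 4] 0 1 = true := by decide +kernel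

theorem rel43 : T.rel 1 [12, 10, 6, 4] 0 1 = true := by decide +kernel

theorem rel44 : T.rel 1 [12, 11, 6, 5] 0 1 = true := by decide +kernel

theorem hcov : T.treeCov (ones 1) L 1 = true := by decide +kernel

theorem hg : lall (fun z => band (memL L z) (band (sub (ones 1) (T.let z).cl) (T.closed (ones 1) z))) gs = true := by decide +kernel

theorem hivk : ivOk (2 * 0) EX IV = true := by decide +kernel

theorem hrt : RT.ok (2 * 0) EX RL = true := by decide +kernel

theorem hdefs : defs F 20 = true := by decide +kernel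

noncomputable def st0_l : List Nat := [nat_lit 0x100000002, nat_lit 0x800002402, nat_lit 0x900002c02, nat_lit 0x140000100001403, nat_lit 0x160000100002403, nat_lit 0x3000012000300000b00000805, nat_lit 0x40001900003003, nat_lit 0x2f0001a80000c03, nat_lit 0x1a00001002, nat_lit 0x1b00005002, nat_lit 0x160001d00005c03, nat_lit 0x300001e8000c403, nat_lit 0x560003f000040000e004, nat_lit 0x80002000004003, nat_lit 0x310002180000c03, nat_lit 0x2100002002, nat_lit 0x2200005802, nat_lit 0x120001c00004c03, nat_lit 0x1c00013000258000480008c000030002480000808, nat_lit 0x60002600003803, nat_lit 0x2700001802, nat_lit 0x480008e000510002380002c05, nat_lit 0x58000530000500014004, nat_lit 0x530002a80014003, nat_lit 0x2b00004802, nat_lit 0x20002c00000c03, nat_lit 0x2c8000e0000060003a0002d8000a406, nat_lit 0x80017402, nat_lit 0x180002f80006403, nat_lit 0x1a0003080006c03, nat_lit 0x6c000c40001a0000c00017c05, nat_lit 0xc80019402, nat_lit 0x1c0002f80007403, nat_lit 0x1c0003380007403,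 nat_lit 0x1e0003580007c03, nat_lit 0x6a0000f8001b003, nat_lit 0x6e0000f8001b803, nat_lit 0x3800007802, nat_lit 0x200003480008403, nat_lit 0x200003900008403, nat_lit 0x2000035800084000ee000750003b0001d007, nat_lit 0x42000780001000007004, nat_lit 0xe8001ec02, nat_lit 0x220003380008c03, nat_lit 0x66000118001f803, nat_lit 0x800001180020003, nat_lit 0x1180020c02, nat_lit 0x240003e80009403, nat_lit 0x240004280009403, nat_lit 0x2240010e00089000120001f005, nat_lit 0x240004500009003, nat_lit 0x1280023402, nat_lit 0x260004780009c03, nat_lit 0x8f0001380024403, nat_lit 0x920001380024803, nat_lit 0x1380025402]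
theorem st0 : band (steps F IV RT base st0_l 20) (Nat.beq (Nat.add 20 (llen st0_l)) 76) = true := by decide +kernel

theorem ep0a : T.treePath [] (Nat.shiftLeft 1 0) 1 = true := by decide +kernel

theorem ep0b : T.treePath [] (Nat.shiftLeft 1 0) 1 = true := by decide +kernel

theorem ep0c : band (lall (fun z => Nat.ble z 255) ([] ++ 1 :: [])) (concl F IV 76 0x17801 (encA ([] ++ 1 :: []) 0)) = true := by decide +kernel

theorem ep0d : band (Rule.ok (2 * 0) EX [] ⟨lapp [] [], [], 0, false⟩) (band (lall (memL L) []) (lall (memL L) [])) = true := by decide +kernel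

theorem cov1 : T.cover 1 [(Nat.shiftLeft 1 0)] = true := by decide +kernel

theorem tl1 : Nat.beq (T.let 1).tt 0 = true := by decide +kernel

theorem ep1a : T.treePath [] (Nat.shiftLeft 1 0) 1 = true := by decide +kernel

theorem ep1b : T.treePath [] (Nat.shiftLeft 1 0) 1 = true := by decide +kernel

theorem ep1c : band (lall (fun z => Nat.ble z 255) ([] ++ 2 :: [])) (concl F IV 76 0x19801 (encA ([] ++ 2 :: []) 0)) = true := by decide +kernel

theorem ep1d : band (Rule.ok (2 * 0) EX [] ⟨lapp [] [], [], 0, false⟩) (band (lall (memL L) []) (lall (memL L) [])) = true := by decide +kernel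

theorem cov2 : T.cover 2 [(Nat.shiftLeft 1 0)] = true := by decide +kernel

theorem tl2 : Nat.beq (T.let 2).tt 0 = true := by decide +kernel

theorem ep2a : T.treePath [] (Nat.shiftLeft 1 0) 1 = true := by decide +kernel

theorem ep2b : T.treePath [] (Nat.shiftLeft 1 0) 1 = true := by decide +kernel

theorem ep2c : band (lall (fun z => Nat.ble z 255) ([] ++ 3 :: [])) (concl F IV 76 0x1f001 (encA ([] ++ 3 :: []) 0)) = true := by decide +kernel

theorem ep2d : band (Rule.ok (2 * 0) EX [] ⟨lapp [] [], [], 0, false⟩) (band (lall (memL L) []) (lall (memL L) [])) = true := by decide +kernel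

theorem cov3 : T.cover 3 [(Nat.shiftLeft 1 0)] = true := by decide +kernel

theorem tl3 : Nat.beq (T.let 3).tt 0 = true := by decide +kernel

theorem ep3a : T.treePath [] (Nat.shiftLeft 1 0) 1 = true := by decide +kernel

theorem ep3b : T.treePath [] (Nat.shiftLeft 1 0) 1 = true := by decide +kernel

theorem ep3c : band (lall (fun z => Nat.ble z 255) ([] ++ 4 :: [])) (concl F IV 76 0x21001 (encA ([] ++ 4 :: []) 0)) = true := by decide +kernel

theorem ep3d : band (Rule.ok (2 * 0) EX [] ⟨lapp [] [], [], 0, false⟩) (band (lall (memL L) []) (lall (memL L) [])) = true := by decide +kernel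

theorem cov4 : T.cover 4 [(Nat.shiftLeft 1 0)] = true := by decide +kernel

theorem tl4 : Nat.beq (T.let 4).tt 0 = true := by decide +kernel

theorem ep4a : T.treePath [] (Nat.shiftLeft 1 0) 1 = true := by decide +kernel

theorem ep4b : T.treePath [] (Nat.shiftLeft 1 0) 1 = true := by decide +kernel

theorem ep4c : band (lall (fun z => Nat.ble z 255) ([] ++ 5 :: [])) (concl F IV 76 0x23801 (encA ([] ++ 5 :: []) 0)) = true := by decide +kernel

theorem ep4d : band (Rule.ok (2 * 0) EX [] ⟨lapp [] [], [], 0, false⟩) (band (lall (memL L) []) (lall (memL L) [])) = true := by decide +kernel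

theorem cov5 : T.cover 5 [(Nat.shiftLeft 1 0)] = true := by decide +kernel

theorem tl5 : Nat.beq (T.let 5).tt 0 = true := by decide +kernel

theorem ep5a : T.treePath [] (Nat.shiftLeft 1 0) 1 = true := by decide +kernel

theorem ep5b : T.treePath [] (Nat.shiftLeft 1 0) 1 = true := by decide +kernel

theorem ep5c : band (lall (fun z => Nat.ble z 255) ([] ++ 6 :: [])) (concl F IV 76 0x25801 (encA ([] ++ 6 :: []) 0)) = true := by decide +kernel

theorem ep5d : band (Rule.ok (2 * 0) EX [] ⟨lapp [] [], [], 0, false⟩) (band (lall (memL L) []) (lall (memL L) [])) = true := by decide +kernel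

theorem cov6 : T.cover 6 [(Nat.shiftLeft 1 0)] = true := by decide +kernel

theorem tl6 : Nat.beq (T.let 6).tt 0 = true := by decide +kernel

theorem rot7_1 : T.rot 7 [1] (sel (ones 1) ip7 1) = true := by decide +kernel

theorem rot7_1r : band (Rule.ok (2 * 0) EX RL ⟨7 :: [1], [], 45, false⟩) (lall (memL L) [1]) = true := by decide +kernel

theorem cov7 : T.cover 7 [(sel (ones 1) ip7 1)] = true := by decide +kernel

theorem tl7 : Nat.beq (T.let 7).tt 0 = true := by decide +kernel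

theorem rot8_1 : T.rot 8 [2] (sel (ones 1) ip8 1) = true := by decide +kernel

theorem rot8_1r : band (Rule.ok (2 * 0) EX RL ⟨8 :: [2], [], 45, false⟩) (lall (memL L) [2]) = true := by decide +kernel

theorem cov8 : T.cover 8 [(sel (ones 1) ip8 1)] = true := by decide +kernel

theorem tl8 : Nat.beq (T.let 8).tt 0 = true := by decide +kernel

theorem rot9_1 : T.rot 9 [3] (sel (ones 1) ip9 1) = true := by decide +kernel

theorem rot9_1r : band (Rule.ok (2 * 0) EX RL ⟨9 :: [3], [], 45, false⟩) (lall (memL L) [3]) = true := by decide +kernel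

theorem cov9 : T.cover 9 [(sel (ones 1) ip9 1)] = true := by decide +kernel

theorem tl9 : Nat.beq (T.let 9).tt 0 = true := by decide +kernel

theorem rot10_1 : T.rot 10 [4] (sel (ones 1) ip10 1) = true := by decide +kernel

theorem rot10_1r : band (Rule.ok (2 * 0) EX RL ⟨10 :: [4], [], 45, false⟩) (lall (memL L) [4]) = true := by decide +kernel

theorem cov10 : T.cover 10 [(sel (ones 1) ip10 1)] = true := by decide +kernel

theorem tl10 : Nat.beq (T.let 10).tt 0 = true := by decide +kernel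

theorem rot11_1 : T.rot 11 [1, 5, 2, 1, 2] (sel (ones 1) ip11 1) = true := by decide +kernel

theorem rot11_1r : band (Rule.ok (2 * 0) EX RL ⟨11 :: [1, 5, 2, 1, 2], [0, 9], 24, true⟩) (lall (memL L) [1, 5, 2, 1, 2]) = true := by decide +kernel

theorem cov11 : T.cover 11 [(sel (ones 1) ip11 1)] = true := by decide +kernel

theorem tl11 : Nat.beq (T.let 11).tt 0 = true := by decide +kernel

theorem rot12_1 : T.rot 12 [6] (sel (ones 1) ip12 1) = true := by decide +kernel

theorem rot12_1r : band (Rule.ok (2 * 0) EX RL ⟨12 :: [6], [], 45, false⟩) (lall (memL L) [6]) = true := by decide +kernel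

theorem cov12 : T.cover 12 [(sel (ones 1) ip12 1)] = true := by decide +kernel

theorem tl12 : Nat.beq (T.let 12).tt 0 = true := by decide +kernel

end Cfsg.Agent.Spor.C3SaA1
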