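import Cfsg.Agent.Spor.Chk

set_option autoImplicit false
set_option maxRecDepth 100000000
set_option Elab.async false
noncomputable section

namespace Cfsg.Agent.Spor.C3SaA1

def n0 : Net := Net.nil

def n1 : Net := Net.nil

def n2 : Net := Net.nil

def n3 : Net := Net.nil

def n4 : Net := Net.nil

def n5 : Net := Net.nil

def ip1 : List Nat := []
def l1 : Let := ⟨0, false, 0x1, 0x0, [0x0]⟩

def ip2 : List Nat := []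
def l2 : Let := ⟨1, false, 0x1, 0x0, [0x0]⟩

def ip3 : List Nat := []
def l3 : Let := ⟨2, false, 0x1, 0x0, [0x0]⟩

def ip4 : List Nat := []
def l4 : Let := ⟨3, false, 0x1, 0x0, [0x0]⟩

def ip5 : List Nat := []
def l5 : Let := ⟨4, false, 0x1, 0x0, [0x0]⟩

def ip6 : List Nat := []
def l6 : Let := ⟨5, false, 0x1, 0x0, [0x0]⟩

def ip7 : List Nat := [0x1]
def l7 : Let := ⟨0, true, 0x1, 0x0, [0x1]⟩

def ip8 : List Nat := [0x1]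
def l8 : Let := ⟨1, true, 0x1, 0x0, [0x1]⟩

def ip9 : List Nat := [0x1]
def l9 : Let := ⟨2, true, 0x1, 0x0, [0x1]⟩

def ip10 : List Nat := [0x1]
def l10 : Let := ⟨3, true, 0x1, 0x0, [0x1]⟩

def ip11 : List Nat := [0x1]
def l11 : Let := ⟨4, true, 0x1, 0x0, [0x1]⟩

def ip12 : List Nat := [0x1]
def l12 : Let := ⟨5, true, 0x1, 0x0, [0x1]⟩

def F : Nat := nat_lit 0x600000000000000014000140c00000000140500014000000500000000000000013000000500013000130400013000130300013000000400000000000000012000120a0000000012020001200000030000000000000000f0001109000110001104000110001101000110000f0a0000f0000f0000010000100a0000f0001002000100000f020000f0000f010000f00000020000000000000000d0000e010000e0000d010000d000000100000000000000001000020b0000200001050000100001000000a00001000000600006090000a0000109000010000100000040000100000080000a020000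a000020a00002000010a0000100002000000c0000100000050000100000090000502000050000c020000c00002080000200001080000100002000000b00001000000300001000000700005070000c00003070000b000060b0000a000050a0000900000010000200014060000000013050000000012040000000011050000f00010040000f0000f03000000000e040000d0000d02000000000c04000020000b02000020000a0b00001000090a00001000080900001000070800001000060500001000050400001000040300001000030200001000020100001000010100000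

def rt0_10 : RTree := RTree.node 0x60c ⟨[6, 12], [], 45, false⟩ (RTree.node 0x309 ⟨[3, 9], [], 45, false⟩ (RTree.node 0x208 ⟨[2, 8], [], 45, false⟩ (RTree.node 0x107 ⟨[1, 7], [], 45, false⟩ (RTree.leaf) (RTree.leaf)) (RTree.leaf)) (RTree.node 0x50b ⟨[5, 11], [], 45, false⟩ (RTree.node 0x40a ⟨[4, 10], [], 45, false⟩ (RTree.leaf) (RTree.leaf)) (RTree.leaf))) (RTree.node 0x903 ⟨[9, 3], [], 45, false⟩ (RTree.node 0x802 ⟨[8, 2], [], 45, false⟩ (RTree.node 0x701 ⟨[7, 1], [], 45, false⟩ (RTree.leaf) (RTree.leaf)) (RTree.leaf)) (RTree.node 0xa04 ⟨[10, 4], [], 45, false⟩ (RTree.leaf) (RTree.leaf)))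
def rt11_20 : RTree := RTree.node 0x1080702 ⟨[1, 8, 7, 2], [0], 30, true⟩ (RTree.node 0xb0b0b ⟨[11, 11, 11], [], 27, false⟩ (RTree.node 0xa0a0a ⟨[10, 10, 10], [], 21, false⟩ (RTree.node 0x50505 ⟨[5, 5, 5], [], 27, true⟩ (RTree.leaf) (RTree.leaf)) (RTree.leaf)) (RTree.node 0xc0c0c ⟨[12, 12, 12], [], 17, false⟩ (RTree.leaf) (RTree.leaf))) (RTree.node 0x10b0705 ⟨[1, 11, 7, 5], [9], 22, true⟩ (RTree.node 0x10a0704 ⟨[1, 10, 7, 4], [0], 32, true⟩ (RTree.node 0x1090703 ⟨[1, 9, 7, 3], [0], 31, true⟩ (RTree.leaf) (RTree.leaf)) (RTree.leaf)) (RTree.node 0x2010807 ⟨[2, 1, 8, 7], [0, 2], 30, true⟩ (RTree.leaf) (RTree.leaf)))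
def rt0_20 : RTree := RTree.node 0x10101 ⟨[1, 1, 1], [], 0, true⟩ (rt0_10) (rt11_20)
def rt21_31 : RTree := RTree.node 0x50c0b06 ⟨[5, 12, 11, 6], [8], 44, true⟩ (RTree.node 0x305090b ⟨[3, 5, 9, 11], [8, 4], 40, false⟩ (RTree.node 0x20a0804 ⟨[2, 10, 8, 4], [2], 36, true⟩ (RTree.node 0x2090803 ⟨[2, 9, 8, 3], [2], 35, true⟩ (RTree.leaf) (RTree.leaf)) (RTree.leaf)) (RTree.node 0x40b0a05 ⟨[4, 11, 10, 5], [6], 42, true⟩ (RTree.node 0x30b0905 ⟨[3, 11, 9, 5], [4], 40, true⟩ (RTree.leaf) (RTree.leaf)) (RTree.leaf))) (RTree.node 0x8040804 ⟨[8, 4, 8, 4], [3], 25, false⟩ (RTree.node 0x70a0104 ⟨[7, 10, 1, 4], [], 32, false⟩ (RTree.node 0x7080102 ⟨[7, 8, 1, 2], [], 30, false⟩ (RTree.leaf) (RTree.leaf)) (RTree.leaf)) (RTree.node 0x905030b ⟨[9, 5, 3, 11], [8], 40, true⟩ (RTree.leaf) (RTree.leaf)))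
def rt32_41 : RTree := RTree.node 0x503050a090a ⟨[5, 3, 5, 10, 9, 10], [8], 29, true⟩ (RTree.node 0x104070a08 ⟨[1, 4, 7, 10, 8], [6, 0], 23, true⟩ (RTree.node 0xc0b0c0b ⟨[12, 11, 12, 11], [11], 15, true⟩ (RTree.node 0xb070501 ⟨[11, 7, 5, 1], [], 33, true⟩ (RTree.leaf) (RTree.leaf)) (RTree.leaf)) (RTree.node 0x70204010a ⟨[7, 2, 4, 1, 10], [6], 23, false⟩ (RTree.leaf) (RTree.leaf))) (RTree.node 0x104070a0b080509 ⟨[1, 4, 7, 10, 11, 8, 5, 9], [6, 0], 28, true⟩ (RTree.node 0x90b0403040b ⟨[9, 11, 4, 3, 4, 11], [5], 29, false⟩ (RTree.node 0x7050807080b ⟨[7, 5, 8, 7, 8, 11], [], 24, false⟩ (RTree.leaf) (RTree.leaf)) (RTree.leaf)) (RTree.node 0x90104070a0b0805 ⟨[9, 1, 4, 7, 10, 11, 8, 5], [6, 0, 5], 28, true⟩ (RTree.leaf) (RTree.leaf)))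
def rt21_41 : RTree := RTree.node 0xa020a02 ⟨[10, 2, 10, 2], [7], 25, true⟩ (rt21_31) (rt32_41)
def rt0_41 : RTree := RTree.node 0x205080b ⟨[2, 5, 8, 11], [8, 2], 37, false⟩ (rt0_20) (rt21_41)
def RT : RTree := rt0_41

def NT : List Net := [n0, n1, n2, n3, n4, n5]
def LT : List Let := [⟨0, false, 0, 0, []⟩, l1, l2, l3, l4, l5, l6, l7, l8, l9, l10, l11, l12]
def T : Tab := ⟨NT, LT⟩
def EX : List (List Nat) := [[], [0], [2], [4], [6], [8], [10], [1], [3], [5], [7], [9], [11]]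
def RL : List (List Nat) := [[0, 0, 0], [6, 11, 9, 9, 3, 11, 6, 5, 10, 6, 2, 8, 6, 9, 3, 11, 6, 5, 10, 6, 2, 8, 11, 9, 6, 9, 3, 11, 6, 5, 10, 6, 2, 8, 6, 11, 9, 9, 3, 11, 6, 5, 10, 6, 2, 8, 6, 9, 3, 11, 6, 5, 10, 6, 2, 8, 11, 9, 6, 9, 3, 11, 6, 5, 10, 6, 2, 8], [0, 9, 3, 11, 6, 5, 10, 6, 2, 8, 0, 9, 3, 11, 6, 5, 10, 6, 2, 8, 0, 9, 3, 11, 6, 5, 10, 6, 2, 8], [6, 11, 9, 7, 11, 9, 6, 9, 3, 11, 6, 5, 10, 6, 2, 8, 6, 11, 9, 7, 11, 9, 6, 9, 3, 11, 6, 5, 10, 6, 2, 8], [6, 11, 9, 9, 3, 11, 6, 5, 10, 6, 2, 8, 6, 9, 3, 11, 6, 5, 10, 6, 2, 8, 11, 9, 6, 1, 6, 11, 9, 7, 11, 9, 6, 0, 6, 11, 9, 9, 3, 11, 6, 5, 10, 6, 2, 8, 6, 9, 3, 11, 6, 5, 10, 6, 2, 8, 11, 9, 6, 6, 11, 9, 7, 11, 9, 6], [1, 6, 11, 9, 7, 11, 9, 6, 0, 6, 11, 9, 7, 11, 9, 6], [6, 11, 9, 7, 11, 9, 6, 1, 11, 9, 0, 6, 11, 9, 7, 11, 9, 6, 11, 9], [6, 11, 9, 9, 3, 11,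 6, 5, 10, 6, 2, 8, 6, 9, 3, 11, 6, 5, 10, 6, 2, 8, 11, 9, 6, 11, 9, 6, 11, 9, 9, 3, 11, 6, 5, 10, 6, 2, 8, 6, 9, 3, 11, 6, 5, 10, 6, 2, 8, 11, 9, 6, 11, 9], [9, 3, 11, 6, 5, 10, 6, 2, 8, 11, 9, 9, 3, 11, 6, 5, 10, 6, 2, 8, 11, 9], [0, 6, 11, 9, 9, 3, 11, 6, 5, 10, 6, 2, 8, 6, 9, 3, 11, 6, 5, 10, 6, 2, 8, 11, 9, 6, 0, 6, 11, 9, 9, 3, 11, 6, 5, 10, 6, 2, 8, 6, 9, 3, 11, 6, 5, 10, 6, 2, 8, 11, 9, 6, 0, 6, 11, 9, 9, 3, 11, 6, 5, 10, 6, 2, 8, 6, 9, 3, 11, 6, 5, 10, 6, 2, 8, 11, 9, 6, 0, 6, 11, 9, 9, 3, 11, 6, 5, 10, 6, 2, 8, 6, 9, 3, 11, 6, 5, 10, 6, 2, 8, 11, 9, 6], [0, 9, 3, 11, 6, 5, 10, 6, 2, 8, 6, 11, 9, 9, 3, 11, 6, 5, 10, 6, 2, 8, 6, 9, 3, 11, 6, 5, 10, 6, 2, 8, 11, 9, 6, 0, 6, 11, 9, 9, 3, 11, 6, 5, 10, 6, 2, 8, 6, 9, 3, 11, 6, 5, 10, 6, 2, 8, 11, 9, 6, 9, 3, 11, 6, 5, 10, 6, 2, 8, 0, 6, 11, 9, 9, 3, 11, 6, 5,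 10, 6, 2, 8, 6, 9, 3, 11, 6, 5, 10, 6, 2, 8, 11, 9, 6, 9, 3, 11, 6, 5, 10, 6, 2, 8, 0, 6, 11, 9, 9, 3, 11, 6, 5, 10, 6, 2, 8, 6, 9, 3, 11, 6, 5, 10, 6, 2, 8, 11, 9, 6, 9, 3, 11, 6, 5, 10, 6, 2, 8], [6, 11, 9, 7, 11, 9, 6, 6, 11, 9, 7, 11, 9, 6], [6, 11, 9, 9, 3, 11, 6, 5, 10, 6, 2, 8, 6, 9, 3, 11, 6, 5, 10, 6, 2, 8, 11, 9, 6, 6, 11, 9, 9, 3, 11, 6, 5, 10, 6, 2, 8, 6, 9, 3, 11, 6, 5, 10, 6, 2, 8, 11, 9, 6], [9, 3, 11, 6, 5, 10, 6, 2, 8, 1, 7, 0, 9, 3, 11, 6, 5, 10, 6, 2, 8, 6], [1, 7, 1, 7, 9, 3, 11, 6, 5, 10, 6, 2, 8, 6, 9, 3, 11, 6, 5, 10, 6, 2, 8, 6, 0, 6], [11, 9, 11, 9], [9, 3, 11, 6, 5, 10, 6, 11, 6, 5, 10, 6, 2, 8], [10, 10, 10], [11, 7, 10, 6], [11, 1, 10, 0], [4, 4, 4], [6, 6, 6], [1, 9, 0, 8], [6, 0, 3, 7, 1], [0, 9, 2, 0, 2, 8], [7, 2, 7, 2], [8, 4, 8, 4], [8, 8, 8], [6, 0, 5, 8, 3, 9, 7, 1], [8, 7, 5, 7,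 8, 4], [0, 2, 1, 3], [0, 4, 1, 5], [0, 6, 1, 7], [0, 8, 1, 9], [0, 10, 1, 11], [2, 4, 3, 5], [2, 6, 3, 7], [2, 8, 3, 9], [2, 10, 3, 11], [4, 6, 5, 7], [4, 8, 5, 9], [4, 10, 5, 11], [6, 8, 7, 9], [6, 10, 7, 11], [8, 10, 9, 11]]
def XL : List (List Nat) := []
def BW : List (List Nat) := []
def IV : Nat := 0x605040302010c0b0a09080700
def L : List Nat := [1, 2, 3, 4, 5, 6, 7, 8, 9, 10, 11, 12]
def gs : List Nat := [1, 2, 3, 4, 5, 6]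
def base : List Nat := []

end Cfsg.Agent.Spor.C3SaA1
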